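import Cfsg.Agent.Lib.Char.Blichfeldt
import Cfsg.Agent.Lib.Char.DegreeCenter
import Cfsg.Agent.Lib.Solvable.Structure
import Mathlib.RingTheory.RootsOfUnity.Complex

/-!
# A special element of order `p` in a linear group of degree less than `2 p`
-/

set_option autoImplicit false
set_option linter.unusedSectionVars false
set_option linter.style.haveILetI false

namespace Cfsg.Agent.SmallDegree

open Cfsg Cfsg.Agent Cfsg.Agent.Char
open scoped commutatorElement
open Module

universe u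

variable {G : Type u} [Group G] [Finite G] {n p : ℕ}

/-- The standard primitive root of unity. -/
noncomputable abbrev rootUnity (p : ℕ) : ℂ := Complex.exp (2 * Real.pi * Complex.I / p)

/-- A representation of degree less than `p` of a `p`-group has commutative image. -/
theorem map_comm_of_small [hp : Fact p.Prime] (σ : Representation ℂ G (Fin n → ℂ)) (hn : n < p)
    (hG : IsPGroup p G) (a b : G) : σ (a * b) = σ (b * a) := by
  haveI : Fintype G := Fintype.ofFinite G
  obtain ⟨m, hm⟩ := IsCharacter.exists_decomp (χ := σ.character) ⟨n, σ, rfl⟩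
  refine Blich.comm_of_linear σ m hm (fun ψ hψ => ?_) a b
  obtain ⟨d, -, hd⟩ := IsIrrCharacter.exists_degree ψ.2
  have h1 : d ≤ n := by
    refine degree_le_of_constituent (α := σ.character) ⟨n, σ, rfl⟩ ψ.2 ?_ ?_ hd
    · rw [hm, classInner_combination]
      exact Nat.cast_ne_zero.mpr hψ
    · rw [Representation.char_one, Module.finrank_fin_fun]
  obtain ⟨k, hk⟩ := hG.exists_card_eq
  obtain ⟨i, -, rfl⟩ := (Nat.dvd_prime_pow hp.out).mp (hk ▸ degree_dvd_card ψ.2 hd)
  rcases Nat.eq_zero_or_pos i with rfl | hi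
  · rw [hd, pow_zero, Nat.cast_one]
  · exact absurd (le_self_pow hp.out.one_lt.le hi.ne') (by omega)

/-- A non-commutative `p`-group has a central element of order `p` in its derived group. -/
theorem exists_central_commutator [hp : Fact p.Prime] (hG : IsPGroup p G)
    (hna : ∃ x y : G, x * y ≠ y * x) :
    ∃ z : G, z ∈ Subgroup.center G ∧ z ∈ commutator G ∧ orderOf z = p := by
  haveI : Group.IsNilpotent G := hG.isNilpotent
  have hne : commutator G ≠ ⊥ := by
    intro h
    obtain ⟨x, y, hxy⟩ := hna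
    have h1 : ⁅x, y⁆ ∈ commutator G :=
      Subgroup.commutator_mem_commutator (Subgroup.mem_top x) (Subgroup.mem_top y)
    rw [h, Subgroup.mem_bot, commutatorElement_eq_one_iff_mul_comm] at h1
    exact hxy h1
  have h1 := SolvStruct.inf_center_ne_bot hne
  obtain ⟨k, hk⟩ := (hG.to_subgroup (commutator G ⊓ Subgroup.center G)).exists_card_eq
  have hk0 : k ≠ 0 := fun h => by
    rw [h, pow_zero] at hk
    exact h1 (Subgroup.eq_bot_of_card_eq _ hk)
  obtain ⟨z, hz⟩ := exists_prime_orderOf_dvd_card' (G := ↥(commutator G ⊓ Subgroup.center G)) p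
    (hk ▸ dvd_pow_self p hk0)
  exact ⟨z, z.2.2, z.2.1, by rw [Subgroup.orderOf_coe, hz]⟩

/-- A non-commutative `p`-subgroup of a linear group of degree less than `2 p`, not `p`, gives an
element of order `p` with `n - p` eigenvalues `1` and `p` equal to a primitive root of unity. -/
theorem exists_element [hp : Fact p.Prime] (ρ : Representation ℂ G (Fin n → ℂ))
    (hρ : Function.Injective ρ) (h2 : n < 2 * p) (hnp : n ≠ p) (h7 : 3 ≤ p) (P : Subgroup G)
    (hP : IsPGroup p P) (hna : ∃ x ∈ P, ∃ y ∈ P, x * y ≠ y * x) :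
    p < n ∧ ∃ z : G, z ^ p = 1 ∧
      ∀ k : ℕ, ρ.character (z ^ k) = ((n : ℂ) - p) + p * rootUnity p ^ k := by
  classical
  haveI : Fintype P := Fintype.ofFinite P
  let σ : Representation ℂ P (Fin n → ℂ) := MonoidHom.comp ρ P.subtype
  obtain ⟨m, hm⟩ := IsCharacter.exists_decomp (χ := σ.character) ⟨n, σ, rfl⟩
  choose d hdpos hd using fun ψ : IrrCharacter P => IsIrrCharacter.exists_degree ψ.2
  have hσ1 : σ.character 1 = (n : ℂ) := by rw [Representation.char_one, Module.finrank_fin_fun]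
  have hsum : ∑ ψ, m ψ * d ψ = n := by
    have h := congrFun hm 1
    rw [hσ1] at h
    simp only [Finset.sum_apply, Pi.smul_apply, smul_eq_mul, hd] at h
    exact_mod_cast h.symm
  have hle : ∀ ψ, m ψ * d ψ ≤ n := fun ψ =>
    hsum ▸ Finset.single_le_sum (f := fun ψ => m ψ * d ψ) (fun _ _ => Nat.zero_le _)
      (Finset.mem_univ ψ)
  have hcase : ∀ ψ, m ψ ≠ 0 → d ψ = 1 ∨ d ψ = p := by
    intro ψ hψ
    obtain ⟨k, hk⟩ := hP.exists_card_eq
    obtain ⟨i, -, hi⟩ := (Nat.dvd_prime_pow hp.out).mp (hk ▸ degree_dvd_card ψ.2 (hd ψ))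
    match i with
    | 0 => exact Or.inl (by simpa using hi)
    | 1 => exact Or.inr (by simpa using hi)
    | j + 2 =>
      exfalso
      have h1 : p * p ≤ d ψ := by
        rw [hi, pow_add, sq]
        exact Nat.le_mul_of_pos_left _ (pow_pos hp.out.pos _)
      have h3 := hle ψ
      nlinarith [Nat.pos_of_ne_zero hψ]
  obtain ⟨ψ₀, hψ₀, hdψ⟩ : ∃ ψ, m ψ ≠ 0 ∧ d ψ = p := by
    by_contra hcon
    push Not at hcon
    obtain ⟨x, hx, y, hy, hxy⟩ := hna
    refine hxy (hρ ?_)
    exact Blich.comm_of_linear σ m hm (fun ψ hψ => by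
      rw [hd, (hcase ψ hψ).resolve_right (hcon ψ hψ), Nat.cast_one]) ⟨x, hx⟩ ⟨y, hy⟩
  have hm₀ : m ψ₀ = 1 := by
    have := hle ψ₀
    rw [hdψ] at this
    rcases Nat.lt_or_ge (m ψ₀) 2 with h | h
    · omega
    · nlinarith
  have hpn : p < n := by
    have := hle ψ₀
    rw [hdψ, hm₀, one_mul] at this
    omega
  refine ⟨hpn, ?_⟩
  have hlin : ∀ ψ, ψ ≠ ψ₀ → m ψ ≠ 0 → d ψ = 1 := by
    intro ψ hne hψ
    refine (hcase ψ hψ).resolve_right fun h => ?_
    have := Finset.add_le_sum (f := fun ψ => m ψ * d ψ) (fun _ _ => Nat.zero_le _)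
      (Finset.mem_univ ψ) (Finset.mem_univ ψ₀) hne
    rw [hsum, h, hdψ, hm₀] at this
    have := Nat.le_mul_of_pos_left p (Nat.pos_of_ne_zero hψ)
    omega
  obtain ⟨z, hzc, hzd, hzo⟩ := exists_central_commutator hP (by
    obtain ⟨x, hx, y, hy, hxy⟩ := hna
    exact ⟨⟨x, hx⟩, ⟨y, hy⟩, fun h => hxy (congrArg Subtype.val h)⟩)
  obtain ⟨c, -, hc, -⟩ := IsIrrCharacter.exists_central_scalar ψ₀.2 hzc
  have hψk : ∀ k : ℕ, (ψ₀ : P → ℂ) (z ^ k) = c ^ k * p := by
    intro k
    induction k with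
    | zero => simp [hd, hdψ]
    | succ k ih => rw [pow_succ', hc, ih]; ring
  have hother : ∀ ψ, ψ ≠ ψ₀ → ∀ k : ℕ, (m ψ : ℂ) * (ψ : P → ℂ) (z ^ k) = m ψ * d ψ := by
    intro ψ hne k
    by_cases hψ : m ψ = 0
    · simp [hψ]
    obtain ⟨f, hf⟩ := exists_hom_of_degree_one (IsIrrCharacter.isCharacter ψ.2)
      (by rw [hd, hlin ψ hne hψ, Nat.cast_one])
    have hker : z ∈ f.ker := Abelianization.commutator_subset_ker f hzd
    rw [hf, hlin ψ hne hψ]
    simp [MonoidHom.mem_ker.mp hker]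
  have hchar : ∀ k : ℕ, σ.character (z ^ k) = ((n : ℂ) - p) + p * c ^ k := by
    intro k
    have hn' : ((n : ℂ) - p) = ∑ ψ ∈ Finset.univ.erase ψ₀, (m ψ : ℂ) * d ψ := by
      rw [← hsum]
      push_cast
      rw [← Finset.add_sum_erase _ _ (Finset.mem_univ ψ₀), hm₀, hdψ]
      push_cast
      ring
    rw [hn', hm]
    simp only [Finset.sum_apply, Pi.smul_apply, smul_eq_mul]
    rw [← Finset.add_sum_erase _ _ (Finset.mem_univ ψ₀), hm₀, hψk, add_comm,
      Finset.sum_congr rfl fun ψ hψ => hother ψ (Finset.ne_of_mem_erase hψ) k]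
    push_cast
    ring
  have hzp : z ^ p = 1 := hzo ▸ pow_orderOf_eq_one z
  have hp0 : (p : ℂ) ≠ 0 := Nat.cast_ne_zero.mpr hp.out.ne_zero
  have hcp : c ^ p = 1 := by
    have h := hψk p
    rw [hzp, hd, hdψ] at h
    exact mul_right_cancel₀ hp0 (h.symm.trans (one_mul _).symm)
  have hc1 : c ≠ 1 := by
    intro h
    have h1 := hchar 1
    rw [pow_one, h, one_pow, mul_one, sub_add_cancel] at h1
    have h3 : σ z = LinearMap.id := by
      rw [← char_eq_degree_iff, h1, Module.finrank_fin_fun]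
    have h4 : z = 1 := Subtype.ext (hρ (by rw [Subgroup.coe_one, map_one]; exact h3))
    rw [h4, orderOf_one] at hzo
    exact hp.out.one_lt.ne hzo
  have hprim : IsPrimitiveRoot c p :=
    IsPrimitiveRoot.iff_orderOf.mpr (orderOf_eq_prime hcp hc1)
  obtain ⟨j, -, hj⟩ := hprim.eq_pow_of_pow_eq_one
    (Complex.isPrimitiveRoot_exp p hp.out.ne_zero).pow_eq_one
  refine ⟨((z ^ j : P) : G), ?_, fun k => ?_⟩
  · rw [← Subgroup.coe_pow, ← pow_mul, mul_comm, pow_mul, hzp, one_pow, Subgroup.coe_one]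
  · rw [← Subgroup.coe_pow, ← pow_mul]
    show σ.character (z ^ (j * k)) = _
    rw [hchar, pow_mul, hj]

/-- The eigenvalues of such an element. -/
theorem eigen_two [hp : Fact p.Prime] {V : Type*} [AddCommGroup V] [Module ℂ V]
    [FiniteDimensional ℂ V] (ρ : Representation ℂ G V) {z : G} (hz : z ^ p = 1) {a b : ℂ}
    (hchar : ∀ k : ℕ, ρ.character (z ^ k) = a + b * rootUnity p ^ k) {μ : ℂ} {v : V} (hv : v ≠ 0)
    (h : ρ z v = μ • v) : μ = 1 ∨ μ = rootUnity p := by
  by_contra hcon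
  push Not at hcon
  obtain ⟨h1, hζ⟩ := hcon
  have hk : ∀ k : ℕ, ρ (z ^ k) v = μ ^ k • v := by
    intro k
    induction k with
    | zero => simp
    | succ k ih => rw [pow_succ, map_mul, Module.End.mul_apply, h, map_smul, ih, smul_smul, pow_succ']
  have hμ : μ ^ p = 1 := by
    have h' := hk p
    rw [hz, map_one, Module.End.one_apply] at h'
    by_contra hne
    exact hv ((smul_eq_zero.mp (show (μ ^ p - 1) • v = 0 by
      rw [sub_smul, one_smul, ← h', sub_self])).resolve_left (sub_ne_zero.mpr hne))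
  have hμ0 : μ ≠ 0 := fun h => by simp [h, zero_pow hp.out.ne_zero] at hμ
  let E : Module.End ℂ V := ∑ k ∈ Finset.range p, (μ⁻¹) ^ k • ρ (z ^ k)
  have hzE : ρ z * E = μ • E := by
    have hs : ∑ k ∈ Finset.range p, (μ⁻¹) ^ (k + 1) • ρ (z ^ (k + 1)) = E := by
      have h0 := (Finset.sum_range_succ' (fun k => (μ⁻¹) ^ k • ρ (z ^ k)) p).symm.trans
        (Finset.sum_range_succ (fun k => (μ⁻¹) ^ k • ρ (z ^ k)) p)
      simp only [inv_pow, hμ, hz, pow_zero, inv_one] at h0 ⊢
      exact (add_right_cancel h0).trans (by simp only [E, inv_pow])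
    calc ρ z * E = ∑ k ∈ Finset.range p, μ • ((μ⁻¹) ^ (k + 1) • ρ (z ^ (k + 1))) := by
          rw [Finset.mul_sum]
          refine Finset.sum_congr rfl fun k _ => ?_
          rw [mul_smul_comm, smul_smul, pow_succ' μ⁻¹, ← mul_assoc, mul_inv_cancel₀ hμ0, one_mul,
            pow_succ', map_mul]
      _ = μ • E := by rw [← Finset.smul_sum, hs]
  have hzkE : ∀ k : ℕ, ρ (z ^ k) * E = μ ^ k • E := by
    intro k
    induction k with
    | zero => simp
    | succ k ih => rw [pow_succ', map_mul, mul_assoc, ih, mul_smul_comm, hzE, smul_smul, pow_succ]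
  have hp0 : (p : ℂ) ≠ 0 := Nat.cast_ne_zero.mpr hp.out.ne_zero
  have hEE : E * E = (p : ℂ) • E := by
    conv_lhs => rw [show E * E = (∑ k ∈ Finset.range p, (μ⁻¹) ^ k • ρ (z ^ k)) * E from rfl]
    rw [Finset.sum_mul]
    calc ∑ k ∈ Finset.range p, ((μ⁻¹) ^ k • ρ (z ^ k)) * E = ∑ k ∈ Finset.range p, E := by
          refine Finset.sum_congr rfl fun k _ => ?_
          rw [smul_mul_assoc, hzkE, smul_smul, ← mul_pow, inv_mul_cancel₀ hμ0, one_pow, one_smul]
      _ = (p : ℂ) • E := by rw [Finset.sum_const, Finset.card_range, Nat.cast_smul_eq_nsmul]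
  have hgeom : ∀ x : ℂ, x ^ p = 1 → x ≠ 1 → ∑ k ∈ Finset.range p, x ^ k = 0 := fun x hx hx1 => by
    rw [geom_sum_eq hx1, hx, sub_self, zero_div]
  have htr : LinearMap.trace ℂ V E = 0 := by
    have hroot : rootUnity p ^ p = 1 :=
      (Complex.isPrimitiveRoot_exp p hp.out.ne_zero).pow_eq_one
    simp only [E, map_sum, map_smul, smul_eq_mul]
    calc ∑ k ∈ Finset.range p, (μ⁻¹) ^ k * ρ.character (z ^ k)
        = a * ∑ k ∈ Finset.range p, (μ⁻¹) ^ k +
          b * ∑ k ∈ Finset.range p, (μ⁻¹ * rootUnity p) ^ k := by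
          rw [Finset.mul_sum, Finset.mul_sum, ← Finset.sum_add_distrib]
          refine Finset.sum_congr rfl fun k _ => ?_
          rw [hchar, mul_pow]
          ring
      _ = 0 := by
          rw [hgeom _ (by rw [inv_pow, hμ, inv_one]) (inv_ne_one.mpr h1),
            hgeom _ (by rw [mul_pow, inv_pow, hμ, hroot, inv_one, one_mul]) (fun h' => hζ ?_)]
          · simp
          · exact (inv_mul_eq_one₀ hμ0).mp h'
  let e : Module.End ℂ V := (p : ℂ)⁻¹ • E
  have hee : IsIdempotentElem e := by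
    show e * e = e
    simp only [e]
    rw [smul_mul_assoc, mul_smul_comm, hEE, smul_smul, smul_smul]
    congr 1
    field_simp
  have hproj : LinearMap.IsProj (LinearMap.range e) e := by
    refine ⟨fun x => LinearMap.mem_range_self e x, ?_⟩
    rintro x ⟨y, rfl⟩
    exact LinearMap.congr_fun hee y
  have h0 := hproj.trace
  rw [show LinearMap.trace ℂ V e = 0 by simp [e, htr]] at h0
  have hrange : LinearMap.range e = ⊥ := Submodule.finrank_eq_zero.mp (by exact_mod_cast h0.symm)
  have hev : e v = v := by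
    have hEv : E v = (p : ℂ) • v := by
      simp only [E, LinearMap.sum_apply, LinearMap.smul_apply, hk, smul_smul, ← mul_pow,
        inv_mul_cancel₀ hμ0, one_pow, one_smul, Finset.sum_const, Finset.card_range,
        Nat.cast_smul_eq_nsmul]
    simp only [e, LinearMap.smul_apply, hEv, smul_smul, inv_mul_cancel₀ hp0, one_smul]
  refine hv ?_
  rw [← hev]
  exact (Submodule.mem_bot ℂ).mp (hrange ▸ LinearMap.mem_range_self e v)

end Cfsg.Agent.SmallDegree
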