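import Cfsg.Agent.Lib.Char.FrobeniusBound
import Cfsg.Agent.Lib.SmallDegree.Element
import Cfsg.Agent.Lib.LocalEven.Basic
import Mathlib.Analysis.SpecialFunctions.Trigonometric.Bounds
import Mathlib.GroupTheory.GroupAction.ConjAct
import Mathlib.Data.Nat.Factorial.Basic
import Mathlib.NumberTheory.Padics.PadicVal.Basic

/-!
# Abelian normal subgroups from near elements, and the monomial structure
-/

set_option autoImplicit false
set_option linter.unusedSectionVars false
set_option linter.style.haveILetI false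

namespace Cfsg.Agent.SmallDegree

open Cfsg Cfsg.Agent
open Module FrobBound

universe u

variable {G : Type u} [Group G] [Finite G] {p : ℕ}
variable {E : Type*} [NormedAddCommGroup E] [InnerProductSpace ℂ E] [FiniteDimensional ℂ E]
variable (τ : G →* (E →L[ℂ] E))

/-- An element with eigenvalues `1` and a primitive `p`-th root of unity has commuting
conjugates. -/
theorem comm_conjugates (hiso : ∀ g v, ‖τ g v‖ = ‖v‖) (hinj : Function.Injective τ) (h7 : 7 ≤ p)
    {z : G}
    (heig : ∀ (μ : ℂ) (v : E), v ≠ 0 → τ z v = μ • v → μ = 1 ∨ μ = rootUnity p) :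
    ∀ a ∈ Subgroup.normalClosure {z}, ∀ b ∈ Subgroup.normalClosure {z}, a * b = b * a := by
  classical
  have hpos : (0 : ℝ) < p := by exact_mod_cast (show 0 < p by omega)
  set θ : ℝ := Real.pi / p with hθ
  have hθ0 : 0 ≤ θ := by positivity
  have hθ1 : θ < 1 / 2 := by
    rw [hθ, div_lt_iff₀ hpos]
    have : (7 : ℝ) ≤ p := by exact_mod_cast h7
    have := Real.pi_lt_d2
    linarith
  have hζ : rootUnity p = Complex.exp (Complex.I * ((2 * θ : ℝ) : ℂ)) := by
    simp only [rootUnity, hθ]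
    push_cast
    ring_nf
  set c : ℂ := Complex.exp (Complex.I * (θ : ℂ)) with hc
  have hcsq : rootUnity p = c * c := by
    rw [hζ, hc, ← Complex.exp_add]
    push_cast
    ring_nf
  have hnc : ‖c‖ = 1 := by rw [hc, mul_comm, Complex.norm_exp_ofReal_mul_I]
  have hc1 : ‖c - 1‖ ≤ θ := by
    have h := Real.norm_exp_I_mul_ofReal_sub_one_le (x := θ)
    rwa [Real.norm_of_nonneg hθ0] at h
  have hζ1 : ‖rootUnity p - 1‖ ≤ 2 * θ := by
    have h := Real.norm_exp_I_mul_ofReal_sub_one_le (x := 2 * θ)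
    rwa [Real.norm_of_nonneg (by positivity), ← hζ] at h
  have hH : ∀ x ∈ Subgroup.zpowers z, ∀ y ∈ Subgroup.zpowers z, x * y = y * x := by
    rintro x ⟨i, rfl⟩ y ⟨j, rfl⟩
    simp only [← zpow_add, add_comm]
  have bound : ∀ (d : ℂ) (r : ℝ), 0 ≤ r → ‖(1 : ℂ) - d‖ ≤ r → ‖rootUnity p - d‖ ≤ r →
      ‖τ z - d • 1‖ ≤ r := by
    intro d r hr h1 h2
    refine norm_le_of_weights τ hiso (Subgroup.zpowers z) hH _ r hr fun χ hχ => ?_
    obtain ⟨v, hv, hv0⟩ := (Submodule.ne_bot_iff _).1 hχ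
    let zz : Subgroup.zpowers z := ⟨z, Subgroup.mem_zpowers z⟩
    refine ⟨χ zz - d, ?_, fun w hw => ?_⟩
    · rcases heig (χ zz) v hv0 ((mem_weightSpace τ).1 hv zz) with h | h <;> rw [h] <;> assumption
    · rw [sub_smul, ← (mem_weightSpace τ).1 hw zz]
      rfl
  have hA : ∀ g : G, ‖τ (g * z * g⁻¹) - c • 1‖ < 1 / 2 ∧ ‖τ (g * z * g⁻¹) - 1‖ < 1 := by
    intro g
    have e : ∀ d : ℂ, τ (g * z * g⁻¹) - d • 1 = τ g * (τ z - d • 1) * τ g⁻¹ := by
      intro d
      simp only [map_mul, mul_sub, sub_mul, mul_smul_comm, smul_mul_assoc, mul_one]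
      rw [← map_mul τ g g⁻¹, mul_inv_cancel, map_one]
    refine ⟨?_, ?_⟩
    · rw [e]
      refine lt_of_le_of_lt ((norm_conj_le τ hiso g _).trans (bound c θ hθ0 ?_ ?_)) hθ1
      · rw [norm_sub_rev]; exact hc1
      · rw [hcsq, show c * c - c = c * (c - 1) by ring, norm_mul, hnc, one_mul]
        exact hc1
    · have e1 := e 1
      rw [one_smul] at e1
      rw [e1]
      refine lt_of_le_of_lt (norm_conj_le τ hiso g _) ?_
      have h := bound 1 (2 * θ) (by positivity) (by simpa using (by positivity : (0 : ℝ) ≤ 2 * θ)) hζ1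
      rw [one_smul] at h
      linarith
  have hcomm : IsMulCommutative (Subgroup.closure (Group.conjugatesOfSet {z})) := by
    refine Subgroup.isMulCommutative_closure fun a ha b hb => ?_
    simp only [Group.mem_conjugatesOfSet_iff, Set.mem_singleton_iff, exists_eq_left] at ha hb
    obtain ⟨x, rfl⟩ := isConj_iff.mp ha
    obtain ⟨y, rfl⟩ := isConj_iff.mp hb
    exact (commute_of_near τ hiso hinj (hA x).1 (hA y).2).eq
  intro a ha b hb
  exact congrArg Subtype.val (hcomm.is_comm.comm ⟨a, ha⟩ ⟨b, hb⟩)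

section Action

variable (N : Subgroup G) [hN : N.Normal]

/-- Conjugate weight. -/
def conjWeight (g : G) (χ : N → ℂ) : N → ℂ :=
  fun h => χ ⟨g⁻¹ * h * g, by simpa using hN.conj_mem _ h.2 g⁻¹⟩

theorem conjWeight_one (χ : N → ℂ) : conjWeight N 1 χ = χ := by
  funext h
  simp [conjWeight]

theorem conjWeight_mul (g g' : G) (χ : N → ℂ) :
    conjWeight N (g * g') χ = conjWeight N g (conjWeight N g' χ) := by
  funext h
  simp [conjWeight, mul_assoc]

theorem conjWeight_mem {g : G} {χ : N → ℂ} {v : E} (hv : v ∈ weightSpace τ N χ) :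
    τ g v ∈ weightSpace τ N (conjWeight N g χ) := by
  rw [mem_weightSpace] at hv ⊢
  intro h
  show τ (h : G) (τ g v) = χ _ • τ g v
  rw [← map_smul, ← hv, ← tau_mul, ← tau_mul]
  simp [mul_assoc]

theorem conjWeight_finrank (g : G) (χ : N → ℂ) :
    finrank ℂ (weightSpace τ N (conjWeight N g χ)) = finrank ℂ (weightSpace τ N χ) := by
  have key : ∀ (g : G) (χ : N → ℂ),
      finrank ℂ (weightSpace τ N χ) ≤ finrank ℂ (weightSpace τ N (conjWeight N g χ)) := by
    intro g χ
    refine LinearMap.finrank_le_finrank_of_injective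
      (f := (τ g).toLinearMap.restrict fun v hv => conjWeight_mem τ N hv) ?_
    intro v w h
    have h' : τ g v = τ g w := congrArg Subtype.val h
    have := congrArg (τ g⁻¹) h'
    rw [← tau_mul, ← tau_mul, inv_mul_cancel, map_one] at this
    exact Subtype.ext this
  refine le_antisymm ?_ (key g χ)
  have h := key g⁻¹ (conjWeight N g χ)
  rwa [← conjWeight_mul, inv_mul_cancel, conjWeight_one] at h

/-- The action on the weights. -/
noncomputable def weightPerm : G →* Equiv.Perm {χ : N → ℂ // weightSpace τ N χ ≠ ⊥} :=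
  letI : MulAction G {χ : N → ℂ // weightSpace τ N χ ≠ ⊥} :=
    { smul := fun g χ => ⟨conjWeight N g χ.1, fun h => χ.2 (Submodule.finrank_eq_zero.mp
        (by rw [← conjWeight_finrank τ N g, h, finrank_bot]))⟩
      one_smul := fun χ => Subtype.ext (conjWeight_one N χ.1)
      mul_smul := fun g g' χ => Subtype.ext (conjWeight_mul N g g' χ.1) }
  MulAction.toPermHom G _

theorem weightPerm_apply (g : G) (χ : {χ : N → ℂ // weightSpace τ N χ ≠ ⊥}) :
    ((weightPerm τ N g) χ).1 = conjWeight N g χ.1 := rfl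

theorem mem_weightSpace_of_ker {g : G} (hg : g ∈ (weightPerm τ N).ker)
    {χ : N → ℂ} (hχ : weightSpace τ N χ ≠ ⊥) {v : E} (hv : v ∈ weightSpace τ N χ) :
    τ g v ∈ weightSpace τ N χ := by
  have h := conjWeight_mem τ N (g := g) hv
  have h' : conjWeight N g χ = χ := by
    rw [← weightPerm_apply τ N g ⟨χ, hχ⟩, MonoidHom.mem_ker.mp hg, Equiv.Perm.one_apply]
  rwa [h'] at h

end Action

/-- Two elements agreeing on all weight spaces are equal. -/
theorem eq_of_weights (hinj : Function.Injective τ) (H : Subgroup G)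
    (hH : ∀ x ∈ H, ∀ y ∈ H, x * y = y * x) {a b : G}
    (h : ∀ χ, weightSpace τ H χ ≠ ⊥ → ∀ v ∈ weightSpace τ H χ, τ a v = τ b v) : a = b := by
  refine hinj (ContinuousLinearMap.ext fun v => ?_)
  have hv : v ∈ ⨆ χ : H → ℂ, weightSpace τ H χ := by rw [iSup_weightSpace τ H hH]; trivial
  induction hv using Submodule.iSup_induction' with
  | mem χ w hw =>
    by_cases h0 : w = 0
    · simp [h0]
    · exact h χ ((Submodule.ne_bot_iff _).2 ⟨w, hw, h0⟩) w hw
  | zero => simp
  | add v w _ _ hv hw => simp [hv, hw]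

theorem card_mul_le_finrank {ι : Type*} {W : ι → Submodule ℂ E} (hW : iSupIndep W) {d : ℕ}
    (hd : ∀ i, finrank ℂ (W i) = d) (s : Finset ι) : s.card * d ≤ finrank ℂ E := by
  classical
  suffices h : s.card * d ≤ finrank ℂ (s.sup W : Submodule ℂ E) from h.trans (Submodule.finrank_le _)
  induction s using Finset.induction with
  | empty => simp
  | @insert a s ha ih =>
    rw [Finset.card_insert_of_notMem ha, Finset.sup_insert]
    have hdis : Disjoint (W a) (s.sup W) := by
      rw [Finset.sup_eq_iSup]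
      exact (hW a).mono_right (iSup₂_le fun i hi =>
        le_iSup₂_of_le i (fun (e : i = a) => ha (e ▸ hi)) le_rfl)
    have h := Submodule.finrank_sup_add_finrank_inf_eq (W a) (s.sup W)
    rw [disjoint_iff.mp hdis, finrank_bot, hd] at h
    linarith

theorem not_sq_dvd_factorial [hp : Fact p.Prime] {m : ℕ} (hm : m < 2 * p) :
    ¬ p ^ 2 ∣ m.factorial := by
  intro h
  have hlog : Nat.log p m < 2 := by
    rcases Nat.eq_zero_or_pos m with rfl | hm0
    · simp
    · refine Nat.log_lt_of_lt_pow hm0.ne' ?_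
      have := hp.out.two_le
      rw [sq]
      nlinarith
  have h1 := (padicValNat_dvd_iff_le (Nat.factorial_ne_zero m)).mp h
  rw [padicValNat_factorial hlog, show Finset.Ico 1 2 = {1} from rfl, Finset.sum_singleton,
    pow_one] at h1
  have h3 : m / p < 2 := (Nat.div_lt_iff_lt_mul hp.out.pos).mpr hm
  omega

/-- A `p`-subgroup stabilising a space of dimension less than `p` acts commutatively on it. -/
theorem comm_on_small [hp : Fact p.Prime] (S : Subgroup G) (hS : IsPGroup p S) (W : Submodule ℂ E)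
    (hW : ∀ g ∈ S, ∀ v ∈ W, τ g v ∈ W) (hd : finrank ℂ W < p) {a b : G} (ha : a ∈ S) (hb : b ∈ S) :
    ∀ v ∈ W, τ (a * b) v = τ (b * a) v := by
  let σ₀ : Representation ℂ S W :=
    { toFun := fun g => (τ (g : G)).toLinearMap.restrict (hW g g.2)
      map_one' := by ext v; simp
      map_mul' := fun g g' => by ext v; simp [tau_mul] }
  let e : W ≃ₗ[ℂ] (Fin (finrank ℂ W) → ℂ) := (Module.finBasis ℂ W).equivFun
  let σ : Representation ℂ S (Fin (finrank ℂ W) → ℂ) :=
    { toFun := fun g => e.conj (σ₀ g)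
      map_one' := by ext v; simp [LinearEquiv.conj_apply]
      map_mul' := fun g g' => by ext v; simp [LinearEquiv.conj_apply] }
  intro v hv
  have h : σ₀ (⟨a, ha⟩ * ⟨b, hb⟩) = σ₀ (⟨b, hb⟩ * ⟨a, ha⟩) :=
    e.conj.injective (map_comm_of_small σ hd hS ⟨a, ha⟩ ⟨b, hb⟩)
  exact congrArg Subtype.val (LinearMap.congr_fun h ⟨v, hv⟩)

/-- The main dichotomy in coordinate free form. -/
theorem not_sq_dvd_index_pCore [hp : Fact p.Prime] (hiso : ∀ g v, ‖τ g v‖ = ‖v‖)
    (hinj : Function.Injective τ)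
    (hirr : ∀ W : Submodule ℂ E, (∀ g, ∀ v ∈ W, τ g v ∈ W) → W = ⊥ ∨ W = ⊤)
    (h7 : 7 ≤ p) (hdim : finrank ℂ E < 2 * p) {z : G}
    (heig : ∀ (μ : ℂ) (v : E), v ≠ 0 → τ z v = μ • v → μ = 1 ∨ μ = rootUnity p)
    (hscal : ∀ c : ℂ, ¬ ∀ v, τ z v = c • v) (P : Subgroup G) (hP : IsPGroup p P)
    (hna : ∃ x ∈ P, ∃ y ∈ P, x * y ≠ y * x) : ¬ p ^ 2 ∣ (Cfsg.pCore p G).index := by
  classical
  set N := Subgroup.normalClosure ({z} : Set G) with hNdef
  haveI : N.Normal := Subgroup.normalClosure_normal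
  have hNc := comm_conjugates τ hiso hinj h7 heig
  have hzN : z ∈ N := Subgroup.subset_normalClosure (Set.mem_singleton z)
  haveI := (indep_weightSpace τ N hNc).fintypeNeBotOfFiniteDimensional
  set φ := weightPerm τ N with hφ
  -- a weight
  obtain ⟨χ₀, hχ₀⟩ : ∃ χ, weightSpace τ N χ ≠ ⊥ := by
    by_contra hcon
    push Not at hcon
    have htop := iSup_weightSpace τ N hNc
    simp only [hcon, iSup_bot] at htop
    refine hscal 1 fun v => ?_
    have hv : v ∈ (⊥ : Submodule ℂ E) := htop ▸ Submodule.mem_top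
    simp [(Submodule.mem_bot ℂ).mp hv]
  have htrans : ∀ χ : {χ : N → ℂ // weightSpace τ N χ ≠ ⊥}, ∃ g, φ g ⟨χ₀, hχ₀⟩ = χ := by
    intro χ
    by_contra hcon
    push Not at hcon
    set S : Submodule ℂ E := ⨆ g : G, weightSpace τ N (conjWeight N g χ₀) with hS
    have hinv : ∀ g, ∀ v ∈ S, τ g v ∈ S := by
      intro g v hv
      have hle : S ≤ S.comap (τ g).toLinearMap := by
        refine iSup_le fun g' w hw => ?_
        refine Submodule.mem_iSup_of_mem (g * g') ?_
        rw [conjWeight_mul]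
        exact conjWeight_mem τ N hw
      exact hle hv
    have hne : S ≠ ⊥ := by
      intro h
      refine hχ₀ (le_bot_iff.mp (h ▸ ?_))
      exact le_iSup_of_le 1 (by rw [conjWeight_one])
    have htop := (hirr S hinv).resolve_left hne
    have hle : S ≤ ⨆ ψ, ⨆ (_ : ψ ≠ χ.1), weightSpace τ N ψ :=
      iSup_le fun g => le_iSup₂_of_le (conjWeight N g χ₀)
        (fun e => hcon g (Subtype.ext ((weightPerm_apply τ N g ⟨χ₀, hχ₀⟩).trans e))) le_rfl
    have hdis := indep_weightSpace τ N hNc χ.1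
    rw [htop] at hle
    rw [top_le_iff.mp hle] at hdis
    exact χ.2 (disjoint_top.mp hdis)
  set d := finrank ℂ (weightSpace τ N χ₀) with hd
  have hdeq : ∀ χ : {χ : N → ℂ // weightSpace τ N χ ≠ ⊥},
      finrank ℂ (weightSpace τ N χ.1) = d := by
    intro χ
    obtain ⟨g, rfl⟩ := htrans χ
    rw [weightPerm_apply, conjWeight_finrank, hd]
  set m := Fintype.card {χ : N → ℂ // weightSpace τ N χ ≠ ⊥} with hm
  have hmd : m * d ≤ finrank ℂ E := by
    have h := card_mul_le_finrank
      (W := fun χ : {χ : N → ℂ // weightSpace τ N χ ≠ ⊥} => weightSpace τ N χ.1)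
      ((indep_weightSpace τ N hNc).comp Subtype.val_injective) hdeq Finset.univ
    rwa [Finset.card_univ] at h
  have hd0 : 0 < d := Nat.pos_of_ne_zero fun h => hχ₀ (Submodule.finrank_eq_zero.mp h)
  have hm2 : 2 ≤ m := by
    by_contra hcon
    refine hscal (χ₀ ⟨z, hzN⟩) fun v => ?_
    have hall : ∀ ψ, weightSpace τ N ψ ≤ weightSpace τ N χ₀ := by
      intro ψ
      by_cases hψ : weightSpace τ N ψ = ⊥
      · rw [hψ]; exact bot_le
      · have := Fintype.card_le_one_iff.mp (show m ≤ 1 by omega) ⟨ψ, hψ⟩ ⟨χ₀, hχ₀⟩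
        rw [show ψ = χ₀ from congrArg Subtype.val this]
    have hv : v ∈ weightSpace τ N χ₀ :=
      iSup_le hall ((iSup_weightSpace τ N hNc).symm ▸ Submodule.mem_top)
    exact (mem_weightSpace τ).1 hv ⟨z, hzN⟩
  have hdp : d < p := by nlinarith
  set K := φ.ker with hK
  have hKP : ∀ a ∈ P ⊓ K, ∀ b ∈ P ⊓ K, a * b = b * a := by
    intro a ha b hb
    refine eq_of_weights τ hinj N hNc fun χ hχ => ?_
    refine comm_on_small τ (P ⊓ K) (hP.to_le inf_le_left) _ (fun g hg v hv => ?_) ?_ ha hb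
    · exact mem_weightSpace_of_ker τ N hg.2 hχ hv
    · exact (hdeq ⟨χ, hχ⟩).trans_lt hdp
  have hindex : K.index ∣ m.factorial := by
    rw [hK, Subgroup.index_ker]
    refine (Subgroup.card_subgroup_dvd_card φ.range).trans ?_
    rw [Nat.card_perm, Nat.card_eq_fintype_card]
  have hpK : p ∣ K.index := by
    by_contra hcon
    haveI : K.Normal := φ.normal_ker
    have hle : P ≤ K := by
      intro x hx
      obtain ⟨k, hk⟩ := hP ⟨x, hx⟩
      have hxk : x ^ p ^ k = 1 := by simpa using congrArg Subtype.val hk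
      rw [← QuotientGroup.eq_one_iff]
      have hc : Nat.Coprime (p ^ k) K.index := Nat.Coprime.pow_left k
        ((Nat.Prime.coprime_iff_not_dvd hp.out).mpr hcon)
      refine orderOf_eq_one_iff.mp (Nat.eq_one_of_dvd_coprimes hc ?_ ?_)
      · exact orderOf_dvd_of_pow_eq_one (by rw [← QuotientGroup.mk_pow, hxk]; rfl)
      · exact orderOf_dvd_natCard (x : G ⧸ K)
    obtain ⟨x, hx, y, hy, hxy⟩ := hna
    exact hxy (hKP x ⟨hx, hle hx⟩ y ⟨hy, hle hy⟩)
  have hmp : p ≤ m := (Nat.Prime.dvd_factorial hp.out).mp (hpK.trans hindex)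
  have hd1 : d = 1 := by
    by_contra hcon
    have : 2 ≤ d := by omega
    nlinarith
  have hm2p : m < 2 * p := lt_of_le_of_lt (le_trans (Nat.le_mul_of_pos_right m hd0) hmd) hdim
  have hKc : ∀ a ∈ K, ∀ b ∈ K, a * b = b * a := by
    intro a ha b hb
    refine eq_of_weights τ hinj N hNc fun χ hχ v hv => ?_
    obtain ⟨w, -, hspan⟩ := finrank_eq_one_iff'.mp ((hdeq ⟨χ, hχ⟩).trans hd1)
    obtain ⟨r, hr⟩ := hspan ⟨v, hv⟩
    obtain ⟨sa, hsa⟩ := hspan ⟨τ a w, mem_weightSpace_of_ker τ N ha hχ w.2⟩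
    obtain ⟨sb, hsb⟩ := hspan ⟨τ b w, mem_weightSpace_of_ker τ N hb hχ w.2⟩
    have hr' : r • (w : E) = v := congrArg Subtype.val hr
    have hsa' : sa • (w : E) = τ a w := congrArg Subtype.val hsa
    have hsb' : sb • (w : E) = τ b w := congrArg Subtype.val hsb
    simp only [← hr', tau_mul, map_smul, ← hsa', ← hsb', smul_smul]
    rw [mul_comm sa sb]
  -- the Sylow subgroup of `K` is normal in `G`
  haveI : K.Normal := φ.normal_ker
  obtain ⟨S⟩ : Nonempty (Sylow p K) := inferInstance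
  haveI hSn : (S : Subgroup K).Normal := ⟨fun s hs k => by
    have : k * s * k⁻¹ = s := by
      rw [mul_inv_eq_iff_eq_mul]
      exact Subtype.ext (hKc k k.2 s s.2)
    rwa [this]⟩
  haveI : (S : Subgroup K).Characteristic := S.characteristic_of_normal hSn
  haveI : ((S : Subgroup K).map K.subtype).Normal := ConjAct.normal_of_characteristic_of_normal
  have hSle : (S : Subgroup K).map K.subtype ≤ Cfsg.pCore p G :=
    Cfsg.Agent.LEBasic.le_pCore inferInstance (S.2.map _)
  intro hdvd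
  have h := hdvd.trans (Subgroup.index_dvd_of_le hSle)
  rw [Subgroup.index_map_subtype] at h
  exact not_sq_dvd_factorial hm2p
    ((Nat.Coprime.dvd_of_dvd_mul_left
      (Nat.Coprime.pow_left 2 ((Nat.Prime.coprime_iff_not_dvd hp.out).mpr S.not_dvd_index)) h).trans
        hindex)

end Cfsg.Agent.SmallDegree
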