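import Cfsg.Agent.Lib.SmallDegree.Monomial
import Cfsg.Agent.Lib.Char.Degree

/-!
# Faithful irreducible characters of degree less than `2 p`
-/

set_option autoImplicit false
set_option linter.unusedSectionVars false
set_option linter.style.haveILetI false

namespace Cfsg.Agent.SmallDegree

open Cfsg Cfsg.Agent Cfsg.Agent.Char
open Module

universe u

variable {G : Type u} [Group G] [Finite G] {n p : ℕ}

theorem not_sq_dvd_index_of_embedding [hp : Fact p.Prime] {F : Type*} [NormedAddCommGroup F]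
    [InnerProductSpace ℂ F] (ρ : Representation ℂ G (Fin n → ℂ))
    [hirr : ρ.IsIrreducible] (hρ : Function.Injective ρ) (h7 : 7 ≤ p) (h2 : n < 2 * p)
    (hnp : n ≠ p) (P : Subgroup G) (hP : IsPGroup p P)
    (hna : ∃ x ∈ P, ∃ y ∈ P, x * y ≠ y * x) (ι : (Fin n → ℂ) →ₗ[ℂ] F)
    (hι : Function.Injective ι) (hn : ∀ g v, ‖ι (ρ g v)‖ = ‖ι v‖) :
    ¬ p ^ 2 ∣ (Cfsg.pCore p G).index := by
  classical
  obtain ⟨hpn, z, hz, hchar⟩ := exists_element ρ hρ h2 hnp (by omega) P hP hna
  let e := LinearEquiv.ofInjective ι hι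
  haveI : FiniteDimensional ℂ (LinearMap.range ι) := e.finiteDimensional
  let τ : G →* (LinearMap.range ι →L[ℂ] LinearMap.range ι) :=
    { toFun := fun g => LinearMap.toContinuousLinearMap (e.conj (ρ g))
      map_one' := by ext x; simp [LinearEquiv.conj_apply]
      map_mul' := fun g h => by ext x; simp [LinearEquiv.conj_apply] }
  have hτe : ∀ g x, τ g (e x) = e (ρ g x) := fun g x => by simp [τ, LinearEquiv.conj_apply]
  have hiso : ∀ g v, ‖τ g v‖ = ‖v‖ := by
    intro g v
    obtain ⟨x, rfl⟩ := e.surjective v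
    rw [hτe]
    exact hn g x
  have hinjτ : Function.Injective τ := fun g h hgh =>
    hρ (e.conj.injective (LinearMap.toContinuousLinearMap.injective hgh))
  have hirrτ : ∀ W : Submodule ℂ (LinearMap.range ι), (∀ g, ∀ v ∈ W, τ g v ∈ W) →
      W = ⊥ ∨ W = ⊤ := by
    intro W hW
    let W' : Subrepresentation ρ :=
      { toSubmodule := W.comap e.toLinearMap
        apply_mem_toSubmodule := fun g v hv => by
          show e (ρ g v) ∈ W
          rw [← hτe]
          exact hW g _ hv }
    have hWe : W = (W.comap e.toLinearMap).map e.toLinearMap :=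
      (Submodule.map_comap_eq_of_surjective e.surjective W).symm
    rcases eq_bot_or_eq_top W' with h | h
    · left
      have h' : W.comap e.toLinearMap = ⊥ := congrArg Subrepresentation.toSubmodule h
      rw [hWe, h', Submodule.map_bot]
    · right
      have h' : W.comap e.toLinearMap = ⊤ := congrArg Subrepresentation.toSubmodule h
      rw [hWe, h', Submodule.map_top]
      exact LinearMap.range_eq_top.mpr e.surjective
  have heig : ∀ (μ : ℂ) (v : LinearMap.range ι), v ≠ 0 → τ z v = μ • v →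
      μ = 1 ∨ μ = rootUnity p := by
    intro μ v hv h
    obtain ⟨x, rfl⟩ := e.surjective v
    rw [hτe, ← map_smul] at h
    exact eigen_two ρ hz hchar (fun h0 => hv (by rw [h0, map_zero])) (e.injective h)
  have hscal : ∀ c : ℂ, ¬ ∀ v, τ z v = c • v := by
    intro c hc
    have hρc : ρ z = c • LinearMap.id := by
      refine LinearMap.ext fun x => e.injective ?_
      rw [← hτe, hc, ← map_smul]
      rfl
    haveI : Nontrivial (Fin n → ℂ) :=
      Module.nontrivial_of_finrank_pos (R := ℂ) (by rw [Module.finrank_fin_fun]; omega)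
    obtain ⟨v, hv⟩ := exists_ne (0 : Fin n → ℂ)
    have hn0 : (n : ℂ) - p ≠ 0 := sub_ne_zero.mpr (by exact_mod_cast hnp)
    have hp0 : (p : ℂ) ≠ 0 := Nat.cast_ne_zero.mpr hp.out.ne_zero
    have hζ : rootUnity p ≠ 1 :=
      (Complex.isPrimitiveRoot_exp p hp.out.ne_zero).ne_one hp.out.one_lt
    have h1 := hchar 1
    rw [pow_one, pow_one, Representation.character, hρc, map_smul, LinearMap.trace_id,
      Module.finrank_fin_fun, smul_eq_mul] at h1
    rcases eigen_two ρ hz hchar hv (μ := c) (by rw [hρc]; rfl) with h | h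
    · rw [h] at h1
      exact hζ (mul_left_cancel₀ hp0 (by linear_combination -h1))
    · rw [h] at h1
      exact hζ (mul_left_cancel₀ hn0 (by linear_combination h1))
  exact not_sq_dvd_index_pCore τ hiso hinjτ hirrτ h7 (by rwa [← e.finrank_eq,
    Module.finrank_fin_fun]) heig hscal P hP hna

theorem not_sq_dvd_index [hp : Fact p.Prime] (ρ : Representation ℂ G (Fin n → ℂ))
    [hirr : ρ.IsIrreducible] (hρ : Function.Injective ρ) (h7 : 7 ≤ p) (h2 : n < 2 * p)
    (hnp : n ≠ p) (P : Subgroup G) (hP : IsPGroup p P)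
    (hna : ∃ x ∈ P, ∃ y ∈ P, x * y ≠ y * x) : ¬ p ^ 2 ∣ (Cfsg.pCore p G).index := by
  classical
  cases nonempty_fintype G
  have hι : Function.Injective (FrobBound.orbitEmb ρ) := by
    intro v w h
    have h1 := FrobBound.orbitEmb_apply ρ v 1
    rw [h, FrobBound.orbitEmb_apply ρ w 1] at h1
    simpa using (congrArg WithLp.ofLp h1).symm
  have hn : ∀ g v, ‖FrobBound.orbitEmb ρ (ρ g v)‖ = ‖FrobBound.orbitEmb ρ v‖ := by
    intro g v
    rw [← sq_eq_sq₀ (norm_nonneg _) (norm_nonneg _), PiLp.norm_sq_eq_of_L2, PiLp.norm_sq_eq_of_L2]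
    refine Fintype.sum_equiv (Equiv.mulRight g) _ _ fun k => ?_
    rw [FrobBound.orbitEmb_apply, FrobBound.orbitEmb_apply, Equiv.coe_mulRight, map_mul]
    rfl
  exact not_sq_dvd_index_of_embedding ρ hρ h7 h2 hnp P hP hna (FrobBound.orbitEmb ρ) hι hn

/-- A `p`-group image: the quotient Sylow subgroups are commutative. -/
theorem quotient_sylow_comm [hp : Fact p.Prime] (N : Subgroup G) [N.Normal]
    (h : (∃ P : Sylow p G, ∃ x ∈ (P : Subgroup G), ∃ y ∈ (P : Subgroup G), x * y ≠ y * x) →
      ¬ p ^ 2 ∣ N.index) (Q : Sylow p (G ⧸ N)) :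
    ∀ x ∈ (Q : Subgroup (G ⧸ N)), ∀ y ∈ (Q : Subgroup (G ⧸ N)), x * y = y * x := by
  by_cases hna : ∃ P : Sylow p G, ∃ x ∈ (P : Subgroup G), ∃ y ∈ (P : Subgroup G), x * y ≠ y * x
  · intro x hx y hy
    obtain ⟨k, hk⟩ := Q.2.exists_card_eq
    have hk1 : k ≤ 1 := by
      by_contra hk2
      refine h hna ?_
      rw [Subgroup.index_eq_card]
      exact (pow_dvd_pow p (by omega)).trans (hk ▸ Subgroup.card_subgroup_dvd_card _)
    haveI : IsCyclic (Q : Subgroup (G ⧸ N)) := by
      interval_cases k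
      · haveI : Subsingleton (Q : Subgroup (G ⧸ N)) :=
          (Nat.card_eq_one_iff_unique.mp (by rw [hk, pow_zero])).1
        exact isCyclic_of_subsingleton
      · exact isCyclic_of_prime_card (by rw [hk, pow_one])
    exact congrArg Subtype.val
      ((IsCyclic.commutative (α := (Q : Subgroup (G ⧸ N)))).is_comm.comm ⟨x, hx⟩ ⟨y, hy⟩)
  · push Not at hna
    obtain ⟨P, rfl⟩ := Sylow.mapSurjective_surjective (QuotientGroup.mk'_surjective N) p Q
    rintro x hx y hy
    obtain ⟨a, ha, rfl⟩ := hx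
    obtain ⟨b, hb, rfl⟩ := hy
    rw [← map_mul, ← map_mul, hna P a ha b hb]

end Cfsg.Agent.SmallDegree
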